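import Mathlib

/-!
# The combinatorics of small degrees with respect to a self-centralising subgroup of order `p`

`false_of_gram`: multiplicities `b χ` of the trivial and `v χ j` of the other characters of a
subgroup of order `p`, with the inner products forced by a trivial intersection Sylow subgroup,
cannot all have degree `< p`.
-/

set_option autoImplicit false

namespace Cfsg.Agent.DegreeLtPrime

open Finset

section

variable {ι J : Type*} [Fintype ι] [Fintype J] [DecidableEq ι] [DecidableEq J]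

/-- Summation over the support given by a parametrisation. -/
theorem sum_param (χ₀ : ι) (c : J → ι) (hc : Function.Injective c) (hc0 : ∀ k, c k ≠ χ₀)
    (b : ι → ℕ) (hcov : ∀ χ, χ ≠ χ₀ → b χ ≠ 0 → ∃ k, χ = c k) (F : ι → ℕ)
    (hF : ∀ χ, b χ = 0 → F χ = 0) : ∑ χ, F χ = F χ₀ + ∑ k, F (c k) := by
  rw [← Finset.sum_image (fun a _ a' _ h => hc h),
    ← Finset.sum_insert (s := Finset.univ.image c) (a := χ₀) (by simp [hc0])]
  refine (Finset.sum_subset (Finset.subset_univ _) fun χ _ hχ => ?_).symm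
  simp only [Finset.mem_insert, Finset.mem_image, Finset.mem_univ, true_and, not_or,
    not_exists] at hχ
  by_contra hne
  obtain ⟨k, hk⟩ := hcov χ hχ.1 fun h => hne (hF χ h)
  exact hχ.2 k hk.symm

/-- The impossibility. -/
theorem false_of_gram {p e t : ℕ} (he2 : 2 ≤ e) (ht : 1 ≤ t) (hp : p = e * Fintype.card J + 1)
    (hJ : 1 ≤ Fintype.card J) (χ₀ : ι) (b : ι → ℕ) (v : ι → J → ℕ) (h0b : b χ₀ = 1)
    (h0v : ∀ j, v χ₀ j = 0) (hlt : ∀ χ, b χ + e * ∑ j, v χ j < p)
    (hne : ∀ χ, χ ≠ χ₀ → ∃ j, v χ j ≠ 0)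
    (hdvd : ∀ χ, b χ + e * ∑ j, v χ j ∣ p * e * (1 + t * p))
    (gbb : ∑ χ, b χ * b χ = t * e + e) (gbv : ∀ j, ∑ χ, b χ * v χ j = t * e)
    (gvv : ∀ i j, ∑ χ, v χ i * v χ j = t * e + if i = j then 1 else 0) : False := by
  set f := Fintype.card J with hf
  clear_value f
  have hte : e ≤ t * e := Nat.le_mul_of_pos_left e ht
  have hbound : ∀ χ, b χ + e * ∑ j, v χ j ≤ e * f := fun χ => by have := hlt χ; omega
  have hSle : ∀ χ, ∑ j, v χ j ≤ f := fun χ =>
    Nat.le_of_mul_le_mul_left (le_trans (Nat.le_add_left _ _) (hbound χ)) (by omega)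
  -- the values are `0` or `1`
  have hdiff : ∀ χ i j, v χ i ≤ v χ j + 1 := by
    intro χ i j
    rcases eq_or_ne i j with rfl | hij
    · omega
    have h2 : ∑ ψ, (((v ψ i : ℤ) - v ψ j) ^ 2) = 2 := by
      have h1 := congrArg (Nat.cast : ℕ → ℤ) (gvv i i)
      have h2 := congrArg (Nat.cast : ℕ → ℤ) (gvv i j)
      have h3 := congrArg (Nat.cast : ℕ → ℤ) (gvv j j)
      simp only [if_pos, if_neg hij] at h1 h2 h3
      push_cast at h1 h2 h3
      rw [Finset.sum_congr rfl (g := fun ψ => (v ψ i : ℤ) * v ψ i + (v ψ j : ℤ) * v ψ j -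
        2 * ((v ψ i : ℤ) * v ψ j)) fun ψ _ => by ring, Finset.sum_sub_distrib,
        Finset.sum_add_distrib, ← Finset.mul_sum]
      linarith
    have h1 : ((v χ i : ℤ) - v χ j) ^ 2 ≤ 2 :=
      h2 ▸ Finset.single_le_sum (fun ψ _ => sq_nonneg ((v ψ i : ℤ) - v ψ j)) (Finset.mem_univ χ)
    by_contra hgt
    have : (2 : ℤ) ≤ (v χ i : ℤ) - v χ j := by omega
    nlinarith
  have hbin : ∀ χ i, v χ i ≤ 1 := by
    intro χ i
    by_contra hgt
    have h1 : ∑ j : J, 1 < ∑ j, v χ j :=
      Finset.sum_lt_sum (fun j _ => by have := hdiff χ i j; omega) ⟨i, Finset.mem_univ i, by omega⟩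
    simp at h1
    have := hSle χ
    omega
  let A : ι → Finset J := fun χ => Finset.univ.filter fun j => v χ j = 1
  have hmemA : ∀ χ j, j ∈ A χ ↔ v χ j = 1 := fun χ j => by simp [A]
  have hnmemA : ∀ χ j, j ∉ A χ ↔ v χ j = 0 := fun χ j => by
    rw [hmemA]; have := hbin χ j; omega
  have hS : ∀ χ, ∑ j, v χ j = (A χ).card := fun χ => by
    rw [Finset.card_filter]
    exact Finset.sum_congr rfl fun j _ => by
      rcases (show v χ j = 0 ∨ v χ j = 1 by have := hbin χ j; omega) with h | h <;> simp [h]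
  -- each ordered pair is separated exactly once
  have hsep : ∀ i j, i ≠ j → (Finset.univ.filter fun χ => i ∈ A χ ∧ j ∉ A χ).card = 1 := by
    intro i j hij
    have h1 : ∑ χ, v χ i * v χ i = ∑ χ, v χ i * v χ j +
        (Finset.univ.filter fun χ => i ∈ A χ ∧ j ∉ A χ).card := by
      rw [Finset.card_filter, ← Finset.sum_add_distrib]
      refine Finset.sum_congr rfl fun χ _ => ?_
      rcases (show v χ i = 0 ∨ v χ i = 1 by have := hbin χ i; omega) with h | h <;>
        rcases (show v χ j = 0 ∨ v χ j = 1 by have := hbin χ j; omega) with h' | h' <;>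
        simp [hmemA, h, h']
    rw [gvv, gvv, if_pos rfl, if_neg hij] at h1
    omega
  have sep_ex : ∀ i j, i ≠ j → ∃ χ, i ∈ A χ ∧ j ∉ A χ := fun i j hij => by
    obtain ⟨χ, hχ⟩ := Finset.card_pos.1 (by rw [hsep i j hij]; exact one_pos)
    exact ⟨χ, (Finset.mem_filter.1 hχ).2⟩
  have sep_un : ∀ i j χ ψ, i ∈ A χ → j ∉ A χ → i ∈ A ψ → j ∉ A ψ → χ = ψ := by
    intro i j χ ψ h1 h2 h3 h4
    have hij : i ≠ j := fun h => h2 (h ▸ h1)
    exact Finset.card_le_one.1 (hsep i j hij).le χ (by simp [h1, h2]) ψ (by simp [h3, h4])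
  have hA0 : ∀ j, j ∉ A χ₀ := fun j => (hnmemA χ₀ j).2 (h0v j)
  have hAne : ∀ χ, χ ≠ χ₀ → (A χ).Nonempty := fun χ hχ => by
    obtain ⟨j, hj⟩ := hne χ hχ
    exact ⟨j, (hmemA χ j).2 (by have := hbin χ j; omega)⟩
  have hfull : ∀ χ, A χ = Finset.univ → b χ = 0 := fun χ h => by
    have h1 := hbound χ
    rw [hS, h, Finset.card_univ, ← hf] at h1
    omega
  rcases (show f = 1 ∨ 2 ≤ f by omega) with hf1 | hf2
  · have hb0 : ∀ χ, χ ≠ χ₀ → b χ = 0 := fun χ hχ => hfull χ (Finset.eq_univ_of_card _ (by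
      have h1 := Finset.card_pos.2 (hAne χ hχ)
      have h2 : (A χ).card ≤ f := hf ▸ Finset.card_le_univ _
      omega))
    rw [Finset.sum_eq_single χ₀ (fun χ _ h => by rw [hb0 χ h, zero_mul]) (by simp), h0b] at gbb
    omega
  -- proper sets are singletons or their complements
  have hmid : ∀ χ, (A χ).card = 0 ∨ (A χ).card = 1 ∨ f ≤ (A χ).card + 1 := by
    intro χ
    by_contra h
    push Not at h
    obtain ⟨i, hi, i', hi', hii⟩ := Finset.one_lt_card.1 (show 1 < (A χ).card by omega)
    have hc : 1 < (A χ)ᶜ.card := by rw [Finset.card_compl, ← hf]; omega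
    obtain ⟨j, hj, j', hj', hjj⟩ := Finset.one_lt_card.1 hc
    rw [Finset.mem_compl] at hj hj'
    obtain ⟨E, hE, hE'⟩ := sep_ex j' j (Ne.symm hjj)
    have hχE : χ ≠ E := fun h => hj' (h ▸ hE)
    have hiE : i ∉ A E := fun h => hχE (sep_un i j χ E hi hj h hE')
    have hi'E : i' ∉ A E := fun h => hχE (sep_un i' j χ E hi' hj h hE')
    obtain ⟨B, hB, hB'⟩ := sep_ex i i' hii
    have hχB : χ ≠ B := fun h => hB' (h ▸ hi')
    have hj'B : j' ∈ A B := by
      by_contra h
      exact hχB (sep_un i j' χ B hi hj' hB h)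
    exact hiE (sep_un j' i' E B hE hi'E hj'B hB' ▸ hB)
  have hproper : ∀ i j χ, i ∈ A χ → j ∉ A χ → χ ≠ χ₀ ∧ (A χ).card < f := fun i j χ hi hj =>
    ⟨fun h => hA0 i (h ▸ hi), hf ▸ Finset.card_lt_univ_of_notMem hj⟩
  have hsupp : ∀ χ, χ ≠ χ₀ → b χ ≠ 0 →
      (A χ).Nonempty ∧ ∃ k, k ∉ A χ := fun χ hχ hb => ⟨hAne χ hχ, by
    by_contra h
    push Not at h
    exact hb (hfull χ (Finset.eq_univ_iff_forall.2 h))⟩
  have hother : ∀ k : J, ∃ j, j ≠ k := fun k => by
    obtain ⟨j, -, hj⟩ := Finset.exists_mem_ne (s := (Finset.univ : Finset J))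
      (by rw [Finset.card_univ, ← hf]; omega) k
    exact ⟨j, hj⟩
  choose o ho using hother
  by_cases hsingle : ∃ χ i, A χ = {i}
  · -- all singletons
    obtain ⟨χ, i, hχ⟩ := hsingle
    have hall : ∀ ψ x y, x ∈ A ψ → y ∉ A ψ → A ψ = {x} := by
      intro ψ x y hx hy
      rcases hmid ψ with h | h | h
      · exact absurd (Finset.card_eq_zero.1 h ▸ hx) (Finset.notMem_empty x)
      · obtain ⟨z, hz⟩ := Finset.card_eq_one.1 h
        rw [hz] at hx ⊢
        rw [Finset.mem_singleton.1 hx]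
      rcases (show f = 2 ∨ 3 ≤ f by omega) with hf' | hf'
      · obtain ⟨z, hz⟩ := Finset.card_eq_one.1 (show (A ψ).card = 1 by
          have h1 := (hproper x y ψ hx hy).2
          have h2 := Finset.card_pos.2 ⟨x, hx⟩
          omega)
        rw [hz] at hx ⊢
        rw [Finset.mem_singleton.1 hx]
      exfalso
      have hψc : (A ψ).card = f - 1 := by have := (hproper x y ψ hx hy).2; omega
      have hcc : (A ψ)ᶜ.card = 1 := by rw [Finset.card_compl, ← hf]; omega
      obtain ⟨k, hk⟩ := Finset.card_eq_one.1 hcc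
      have hmemψ : ∀ z, z ∈ A ψ ↔ z ≠ k := fun z => by
        have h1 := Finset.ext_iff.1 hk z
        simp at h1
        tauto
      have hne' : χ ≠ ψ := fun h => by
        rw [← h, hχ, Finset.card_singleton] at hψc; omega
      have hki : k = i := by
        by_contra hki
        exact hne' (sep_un i k χ ψ (by simp [hχ]) (by simp [hχ, hki])
          ((hmemψ i).2 (Ne.symm hki)) (fun h => (hmemψ k).1 h rfl))
      subst hki
      obtain ⟨j, hjk, l, hlk, hjl⟩ : ∃ j, j ≠ k ∧ ∃ l, l ≠ k ∧ j ≠ l := by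
        obtain ⟨j, hj, l, hl, hjl⟩ := Finset.one_lt_card.1 (show 1 < (A ψ).card by omega)
        exact ⟨j, (hmemψ j).1 hj, l, (hmemψ l).1 hl, hjl⟩
      obtain ⟨ω, hjω, hlω⟩ := sep_ex j l hjl
      rcases hmid ω with h | h | h
      · exact absurd (Finset.card_eq_zero.1 h ▸ hjω) (Finset.notMem_empty j)
      · obtain ⟨z, hz⟩ := Finset.card_eq_one.1 h
        have hzj : z = j := by rw [hz, Finset.mem_singleton] at hjω; exact hjω.symm
        subst hzj
        have := sep_un z k ψ ω ((hmemψ z).2 hjk) (fun h' => (hmemψ k).1 h' rfl) hjω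
          (by simp [hz, Ne.symm hjk])
        rw [← this] at hlω
        exact hlω ((hmemψ l).2 hlk)
      · have hω : (A ω).card = f - 1 := by have := (hproper j l ω hjω hlω).2; omega
        have hkω : k ∈ A ω := by
          by_contra hk'
          exact hlk (Finset.card_le_one.1
            (show (A ω)ᶜ.card ≤ 1 by rw [Finset.card_compl, ← hf]; omega)
            l (Finset.mem_compl.2 hlω) k (Finset.mem_compl.2 hk'))
        have := sep_un k l χ ω (by simp [hχ]) (by simp [hχ, hlk]) hkω hlω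
        rw [← this, hχ, Finset.card_singleton] at hω
        omega
    choose c hc using fun k => sep_ex k (o k) (Ne.symm (ho k))
    have hcA : ∀ k, A (c k) = {k} := fun k => hall (c k) k (o k) (hc k).1 (hc k).2
    have hcinj : Function.Injective c := fun a a' h => by
      have := congrArg A h
      rw [hcA, hcA] at this
      exact Finset.singleton_injective this
    have hc0 : ∀ k, c k ≠ χ₀ := fun k h => hA0 k (h ▸ (hc k).1)
    have hcov : ∀ ψ, ψ ≠ χ₀ → b ψ ≠ 0 → ∃ k, ψ = c k := fun ψ hψ hb => by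
      obtain ⟨⟨x, hx⟩, y, hy⟩ := hsupp ψ hψ hb
      have hA := hall ψ x y hx hy
      exact ⟨x, sep_un x (o x) ψ (c x) hx (by simp [hA, ho x]) (hc x).1 (hc x).2⟩
    have hv : ∀ k j, v (c k) j = if j = k then 1 else 0 := fun k j => by
      split_ifs with h
      · exact (hmemA _ _).1 (by simp [hcA, h])
      · exact (hnmemA _ _).1 (by simp [hcA, h])
    have hbk : ∀ j, b (c j) = t * e := fun j => by
      have h := sum_param χ₀ c hcinj hc0 b hcov (fun ψ => b ψ * v ψ j)
        (fun ψ hψ => by simp [hψ])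
      rw [gbv] at h
      simp only [h0v, hv, mul_ite, mul_one, mul_zero, Finset.sum_ite_eq, Finset.mem_univ,
        if_true] at h
      omega
    have h := sum_param χ₀ c hcinj hc0 b hcov (fun ψ => b ψ * b ψ) (fun ψ hψ => by simp [hψ])
    rw [gbb] at h
    simp only [h0b, hbk, Finset.sum_const, Finset.card_univ, ← hf, smul_eq_mul] at h
    have h1 : 2 * (t * e * (t * e)) ≤ f * (t * e * (t * e)) := Nat.mul_le_mul_right _ hf2
    have h2 : 2 * (t * e) ≤ t * e * (t * e) := Nat.mul_le_mul_right _ (by omega)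
    omega
  · -- all complements of singletons
    have hall : ∀ ψ x y, x ∈ A ψ → y ∉ A ψ → ∀ z, z ∈ A ψ ↔ z ≠ y := by
      intro ψ x y hx hy z
      have hcard : f ≤ (A ψ).card + 1 := by
        rcases hmid ψ with h | h | h
        · exact absurd (Finset.card_eq_zero.1 h ▸ hx) (Finset.notMem_empty x)
        · obtain ⟨w, hw⟩ := Finset.card_eq_one.1 h
          exact absurd ⟨ψ, w, hw⟩ hsingle
        · exact h
      refine ⟨fun hz h => hy (h ▸ hz), fun hz => ?_⟩
      by_contra hz'
      exact hz (Finset.card_le_one.1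
        (show (A ψ)ᶜ.card ≤ 1 by rw [Finset.card_compl, ← hf]; omega)
        z (Finset.mem_compl.2 hz') y (Finset.mem_compl.2 hy))
    choose c hc using fun k => sep_ex (o k) k (ho k)
    have hcA : ∀ k z, z ∈ A (c k) ↔ z ≠ k := fun k => hall (c k) (o k) k (hc k).1 (hc k).2
    have hcinj : Function.Injective c := fun a a' h => by
      by_contra hne'
      have := (hcA a' a).2 hne'
      rw [← h] at this
      exact (hcA a a).1 this rfl
    have hc0 : ∀ k, c k ≠ χ₀ := fun k h => hA0 (o k) (h ▸ (hc k).1)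
    have hcov : ∀ ψ, ψ ≠ χ₀ → b ψ ≠ 0 → ∃ k, ψ = c k := fun ψ hψ hb => by
      obtain ⟨⟨x, hx⟩, y, hy⟩ := hsupp ψ hψ hb
      exact ⟨y, sep_un (o y) y ψ (c y) ((hall ψ x y hx hy _).2 (ho y)) hy (hc y).1 (hc y).2⟩
    have hv : ∀ k j, v (c k) j = if j = k then 0 else 1 := fun k j => by
      split_ifs with h
      · exact (hnmemA _ _).1 (by simp [hcA, h])
      · exact (hmemA _ _).1 (by simp [hcA, h])
    set B := ∑ k, b (c k) with hB
    have hbk : ∀ j, t * e + b (c j) = B := fun j => by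
      have h := sum_param χ₀ c hcinj hc0 b hcov (fun ψ => b ψ * v ψ j)
        (fun ψ hψ => by simp [hψ])
      rw [gbv] at h
      simp only [h0v, mul_zero, zero_add] at h
      rw [h, hB, ← Finset.add_sum_erase _ _ (Finset.mem_univ j),
        ← Finset.add_sum_erase _ _ (Finset.mem_univ j), hv, if_pos rfl, mul_zero, zero_add,
        add_comm]
      congr 1
      exact Finset.sum_congr rfl fun k hk => by
        rw [hv, if_neg (Ne.symm (Finset.ne_of_mem_erase hk)), mul_one]
    obtain ⟨j₀⟩ : Nonempty J := Fintype.card_pos_iff.1 (by omega)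
    set β := b (c j₀) with hβ
    have hconst : ∀ j, b (c j) = β := fun j => by have := hbk j; have := hbk j₀; omega
    have hBf : B = f * β := by
      rw [hB, Finset.sum_congr rfl fun k _ => hconst k, Finset.sum_const, Finset.card_univ,
        smul_eq_mul, hf]
    have hj₀ := hbk j₀
    rw [← hβ, hBf] at hj₀
    have h := sum_param χ₀ c hcinj hc0 b hcov (fun ψ => b ψ * b ψ) (fun ψ hψ => by simp [hψ])
    rw [gbb] at h
    simp only [h0b, hconst, Finset.sum_const, Finset.card_univ, ← hf, smul_eq_mul] at h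
    obtain ⟨f', rfl⟩ : ∃ f', f = f' + 1 := ⟨f - 1, by omega⟩
    rw [add_mul, one_mul] at hj₀
    have hte' : t * e = f' * β := by omega
    rcases (show β = 0 ∨ β = 1 ∨ 2 ≤ β by omega) with hb | hb | hb
    · rw [hb, mul_zero] at hte'; omega
    · rw [hb] at h hte'
      have he : e = 2 := by omega
      subst he
      -- the degree of an exceptional character divides the order
      have hd := hdvd (c j₀)
      have hcard : (A (c j₀)).card = f' := by
        rw [show A (c j₀) = Finset.univ.erase j₀ by ext z; simp [hcA],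
          Finset.card_erase_of_mem (Finset.mem_univ _), Finset.card_univ, ← hf]
        omega
      rw [hS, hcard, ← hβ, hb] at hd
      have hp' : p = (1 + 2 * f') + 2 := by omega
      have h2 : 1 + 2 * f' ∣ 2 := by
        have h3 : p * 2 * (1 + t * p) =
            (2 * (1 + t * p) + 4 * t + 2) * (1 + 2 * f') + 2 := by
          rw [hp', show f' = 2 * t by omega]
          ring
        rw [h3] at hd
        exact (Nat.dvd_add_right (dvd_mul_left _ _)).1 hd
      have := Nat.le_of_dvd two_pos h2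
      omega
    · have h1 : (f' + 1) * (2 * β) ≤ (f' + 1) * (β * β) :=
        Nat.mul_le_mul_left _ (Nat.mul_le_mul_right β hb)
      have h3 : (f' + 1) * (2 * β) = 2 * (f' * β) + 2 * β := by ring
      omega

end

end Cfsg.Agent.DegreeLtPrime
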