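import Cfsg.Agent.Lib.DegreeLtPrime.Arith
import Cfsg.Agent.Lib.Char.Ito
import Cfsg.Agent.Lib.Char.Linear
import Cfsg.Agent.Lib.Char.KernelSum
import Cfsg.Agent.Lib.CharInt.Basic
import Mathlib.NumberTheory.LegendreSymbol.AddCharacter

/-!
# Restrictions to abelian and to cyclic subgroups when all degrees are less than `p`

* `index_bound`: the sum of the degrees against the centralizer orders of an abelian subgroup;
* `false_of_self_centralizing`: no self-centralizing subgroup of order `p` with at least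
  `p + 1` conjugates and faithful action, when all degrees are less than `p`.
-/

set_option autoImplicit false
set_option linter.style.haveILetI false

namespace Cfsg.Agent.DegreeLtPrime

open Cfsg Cfsg.Agent
open scoped ComplexConjugate Classical

universe u

variable {G : Type u} [Group G] [Fintype G]

/-- The degrees against the centralizers of an abelian subgroup. -/
theorem sum_degree_mul_le (H : Subgroup G) (hab : ∀ a b : H, a * b = b * a) :
    Nat.card H * ∑ χ : IrrCharacter G, Char.degree χ ≤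
      ∑ h : H, Nat.card (Subgroup.centralizer ({(h : G)} : Set G)) := by
  choose m hm hm' using fun χ : IrrCharacter G =>
    Char.IsCharacter.exists_decomp (Char.IsCharacter.restrict (Char.irr_isCharacter χ) H)
  have hdeg : ∀ χ, Char.degree χ ≤ ∑ θ, m χ θ * m χ θ := fun χ => by
    have h1 : (Char.degree χ : ℂ) = ((∑ θ, m χ θ : ℕ) : ℂ) := by
      rw [← Char.apply_one_eq_degree]
      have h := congrFun (hm χ) 1
      simp only [Finset.sum_apply, Pi.smul_apply, smul_eq_mul, Subgroup.coe_one,
        Char.apply_one_of_comm hab, mul_one] at h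
      rw [h]; push_cast; rfl
    rw [Nat.cast_inj.1 h1]
    exact Finset.sum_le_sum fun θ _ => Nat.le_mul_self _
  have hsq : ∀ χ : IrrCharacter G, ∑ h : H, χ.1 h * conj (χ.1 h) =
      (Nat.card H : ℂ) * ((∑ θ, m χ θ * m χ θ : ℕ) : ℂ) := fun χ => by
    have h := Char.classInner_eq_sum (f' := fun x : H => χ.1 x)
      (Char.IsCharacter.isClassFunction (Char.IsCharacter.restrict (Char.irr_isCharacter χ) H))
    rw [Finset.sum_congr rfl (g := fun θ => ((m χ θ : ℂ) * (m χ θ : ℂ))) fun θ _ => by
      rw [← Char.conj_classInner (fun x : H => χ.1 x) θ.1, hm' χ θ, map_natCast],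
      classInner, inv_mul_eq_iff_eq_mul₀ Char.card_ne_zero] at h
    push_cast
    exact h
  have key : Nat.card H * ∑ χ, ∑ θ, m χ θ * m χ θ =
      ∑ h : H, Nat.card (Subgroup.centralizer ({(h : G)} : Set G)) := by
    apply Nat.cast_injective (R := ℂ)
    rw [Nat.cast_mul, Nat.cast_sum, Nat.cast_sum, Finset.mul_sum,
      Finset.sum_congr rfl fun χ _ => (hsq χ).symm, Finset.sum_comm]
    refine Finset.sum_congr rfl fun h _ => ?_
    rw [Char.sum_irr_mul_conj, if_pos (IsConj.refl _)]
  rw [← key]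
  exact Nat.mul_le_mul_left _ (Finset.sum_le_sum fun χ _ => hdeg χ)

/-- The bound for an abelian subgroup all of whose nontrivial centralizers lie in `N`. -/
theorem index_bound {p : ℕ} (hb : ∀ χ : IrrCharacter G, Char.degree χ < p) (H N : Subgroup G)
    (hab : ∀ a b : H, a * b = b * a)
    (hC : ∀ h ∈ H, h ≠ 1 → Subgroup.centralizer ({h} : Set G) ≤ N) :
    Nat.card G * Nat.card H ≤ (p - 1) * (Nat.card G + (Nat.card H - 1) * Nat.card N) := by
  have h1 : Nat.card G ≤ (p - 1) * ∑ χ : IrrCharacter G, Char.degree χ := by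
    rw [← Char.sum_degree_sq, Finset.mul_sum]
    refine Finset.sum_le_sum fun χ _ => ?_
    rw [sq]
    exact Nat.mul_le_mul_right _ (by have := hb χ; omega)
  have h2 : ∑ h : H, Nat.card (Subgroup.centralizer ({(h : G)} : Set G)) ≤
      Nat.card G + (Nat.card H - 1) * Nat.card N := by
    rw [← Finset.add_sum_erase _ _ (Finset.mem_univ (1 : H))]
    refine Nat.add_le_add (Subgroup.card_le_card_group _) ?_
    refine (Finset.sum_le_card_nsmul _ _ (Nat.card N) fun h hh => ?_).trans ?_
    · exact Nat.le_of_dvd Nat.card_pos (Subgroup.card_dvd_of_le (hC h h.2 fun h' =>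
        (Finset.mem_erase.1 hh).1 (Subtype.ext h')))
    · rw [Finset.card_erase_of_mem (Finset.mem_univ _), Finset.card_univ, smul_eq_mul,
        Nat.card_eq_fintype_card (α := H)]
  calc Nat.card G * Nat.card H ≤ (p - 1) * (∑ χ : IrrCharacter G, Char.degree χ) * Nat.card H :=
        Nat.mul_le_mul_right _ h1
    _ = (p - 1) * (Nat.card H * ∑ χ : IrrCharacter G, Char.degree χ) := by ring
    _ ≤ _ := Nat.mul_le_mul_left _ ((sum_degree_mul_le H hab).trans h2)

section Cyclic

variable {p : ℕ} [hp : Fact p.Prime] {y : G}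

/-- The power of `y` indexed by a residue. -/
def pw (y : G) (k : ZMod p) : G := y ^ k.val

theorem pw_natCast (hy : orderOf y = p) (n : ℕ) : pw y (n : ZMod p) = y ^ n := by
  rw [pw, ZMod.val_natCast, ← hy, pow_mod_orderOf]

theorem pw_zero : pw y (0 : ZMod p) = (1 : G) := by rw [pw, ZMod.val_zero, pow_zero]

theorem pw_one (hy : orderOf y = p) : pw y (1 : ZMod p) = y := by
  simpa using pw_natCast hy 1

theorem pw_pow (hy : orderOf y = p) (a : ZMod p) (n : ℕ) : pw y a ^ n = pw y (a * (n : ZMod p)) := by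
  obtain ⟨m, rfl⟩ : ∃ m : ℕ, (m : ZMod p) = a := ⟨a.val, ZMod.natCast_zmod_val a⟩
  rw [← Nat.cast_mul, pw_natCast hy, pw_natCast hy, pow_mul]

theorem pw_mul (hy : orderOf y = p) (a b : ZMod p) : pw y (a * b) = pw y a ^ b.val := by
  rw [pw_pow hy, ZMod.natCast_zmod_val]

theorem pw_inj (hy : orderOf y = p) {a b : ZMod p} (h : pw y a = pw y b) : a = b :=
  ZMod.val_injective p (pow_injOn_Iio_orderOf (x := y) (by simpa [hy] using ZMod.val_lt a)
    (by simpa [hy] using ZMod.val_lt b) h)

/-- The residues `ε` with `y` conjugate to `y ^ ε`. -/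
noncomputable def fus (y : G) (p : ℕ) [Fact p.Prime] : Finset (ZMod p) :=
  Finset.univ.filter fun ε => IsConj y (pw y ε)

theorem fus_ne_zero (hy : orderOf y = p) {ε : ZMod p} (h : ε ∈ fus y p) : ε ≠ 0 := by
  rintro rfl
  have h1 := (Finset.mem_filter.1 h).2
  rw [pw_zero, isConj_one_left] at h1
  rw [h1, orderOf_one] at hy
  exact hp.out.ne_one hy.symm

theorem isConj_pw_mul (hy : orderOf y = p) {ε : ZMod p} (h : ε ∈ fus y p) (k : ZMod p) :
    IsConj (pw y k) (pw y (k * ε)) := by
  obtain ⟨g, hg⟩ := isConj_iff.1 (Finset.mem_filter.1 h).2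
  refine isConj_iff.2 ⟨g, ?_⟩
  rw [mul_comm, pw_mul hy, ← hg, conj_pow]
  rfl

theorem isConj_pw_iff (hy : orderOf y = p) {k l : ZMod p} (hk : k ≠ 0) :
    IsConj (pw y k) (pw y l) ↔ ∃ ε ∈ fus y p, k * ε = l := by
  refine ⟨fun h => ?_, fun ⟨ε, hε, he⟩ => he ▸ isConj_pw_mul hy hε k⟩
  obtain ⟨g, hg⟩ := isConj_iff.1 h
  refine ⟨l / k, Finset.mem_filter.2 ⟨Finset.mem_univ _, isConj_iff.2 ⟨g, ?_⟩⟩,
    mul_div_cancel₀ _ hk⟩
  rw [div_eq_mul_inv, pw_mul hy l, ← hg, conj_pow, ← pw_mul hy, mul_inv_cancel₀ hk, pw_one hy]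

theorem centralizer_pw (hy : orderOf y = p) {l : ZMod p} (hl : l ≠ 0) :
    Subgroup.centralizer ({pw y l} : Set G) = Subgroup.centralizer ({y} : Set G) := by
  ext x
  rw [Subgroup.mem_centralizer_singleton_iff, Subgroup.mem_centralizer_singleton_iff]
  refine ⟨fun h => ?_, fun h => (Commute.pow_right h l.val :)⟩
  have h1 : Commute x (pw y l ^ (l⁻¹).val) := Commute.pow_right h _
  rw [← pw_mul hy, mul_inv_cancel₀ hl, pw_one hy] at h1
  exact h1

theorem card_normalizer (hy : orderOf y = p)
    (hC : Subgroup.centralizer ({y} : Set G) = Subgroup.zpowers y) :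
    Nat.card (Subgroup.normalizer (Subgroup.zpowers y : Set G)) = (fus y p).card * p := by
  set N := Subgroup.normalizer (Subgroup.zpowers y : Set G) with hN
  have hex : ∀ g ∈ N, ∃ ε : ZMod p, g * y * g⁻¹ = pw y ε := fun g hg => by
    have h1 := (Subgroup.mem_normalizer_iff.1 hg y).1 (Subgroup.mem_zpowers y)
    obtain ⟨n, hn, he⟩ := (isOfFinOrder_of_finite y).mem_zpowers_iff_mem_range_orderOf.1 h1 |>
      Finset.mem_image.1
    exact ⟨(n : ZMod p), by rw [pw_natCast hy, he]⟩
  have hfib : ∀ ε ∈ fus y p,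
      (Finset.univ.filter fun g : G => g * y * g⁻¹ = pw y ε).card = p := by
    intro ε hε
    obtain ⟨g, hg⟩ := isConj_iff.1 (Finset.mem_filter.1 hε).2
    rw [← Fintype.card_subtype, ← Nat.card_eq_fintype_card]
    have h1 : Nat.card (Subgroup.centralizer ({y} : Set G)) = p := by
      rw [hC, Nat.card_zpowers, hy]
    refine (Nat.card_congr ?_).trans h1
    refine (Equiv.subtypeEquiv (Equiv.mulLeft g⁻¹) fun x => ?_)
    rw [Subgroup.mem_centralizer_singleton_iff, Equiv.coe_mulLeft]
    dsimp only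
    constructor
    · intro hx
      rw [← hg, mul_inv_eq_iff_eq_mul] at hx
      rw [mul_assoc, hx]; group
    · intro hx
      rw [← hg]
      calc x * y * x⁻¹ = g * (g⁻¹ * x * y) * x⁻¹ := by group
        _ = g * (y * (g⁻¹ * x)) * x⁻¹ := by rw [hx]
        _ = g * y * g⁻¹ := by group
  rw [Nat.card_eq_fintype_card, Fintype.card_subtype]
  have hdec : (Finset.univ.filter fun g : G => g ∈ N) =
      (fus y p).biUnion fun ε => Finset.univ.filter fun g : G => g * y * g⁻¹ = pw y ε := by
    ext g
    simp only [Finset.mem_filter, Finset.mem_univ, true_and, Finset.mem_biUnion]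
    constructor
    · intro hg
      obtain ⟨ε, hε⟩ := hex g hg
      exact ⟨ε, Finset.mem_filter.2 ⟨Finset.mem_univ _, isConj_iff.2 ⟨g, hε⟩⟩, hε⟩
    · rintro ⟨ε, hε, hg⟩
      have hmap : (Subgroup.zpowers y).map (MulAut.conj g).toMonoidHom = Subgroup.zpowers y := by
        rw [MonoidHom.map_zpowers]
        show Subgroup.zpowers (g * y * g⁻¹) = _
        rw [hg]
        refine Subgroup.eq_of_le_of_card_ge
          (Subgroup.zpowers_le.2 (pow_mem (Subgroup.mem_zpowers y) _)) ?_
        rw [Nat.card_zpowers, Nat.card_zpowers, hy]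
        refine Nat.le_of_dvd (orderOf_pos _) ?_
        have h1 : pw y ε ^ (ε⁻¹).val = y := by
          rw [← pw_mul hy, mul_inv_cancel₀ (fus_ne_zero hy hε), pw_one hy]
        conv_lhs => rw [← hy, ← h1]
        exact orderOf_pow_dvd _
      rw [hN, Subgroup.mem_normalizer_iff]
      intro x
      nth_rw 2 [← hmap]
      exact (Subgroup.mem_map_iff_mem (f := (MulAut.conj g).toMonoidHom)
        (MulAut.conj g).injective (K := Subgroup.zpowers y) (x := x)).symm
  rw [hdec, Finset.card_biUnion, Finset.sum_congr rfl hfib, Finset.sum_const, smul_eq_mul]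
  intro a _ b _ hab
  exact Finset.disjoint_filter.2 fun g _ h1 h2 => hab (pw_inj hy (h1.symm.trans h2))

/-- No self-centralizing subgroup of order `p` with `p + 1` or more conjugates, acting faithfully,
when all degrees are less than `p`. -/
theorem false_of_self_centralizing (hb : ∀ χ : IrrCharacter G, Char.degree χ < p)
    (hy : orderOf y = p) (hC : Subgroup.centralizer ({y} : Set G) = Subgroup.zpowers y) {t : ℕ}
    (ht : 1 ≤ t)
    (hidx : (Subgroup.normalizer (Subgroup.zpowers y : Set G)).index = 1 + t * p)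
    (hN2 : 2 * p ≤ Nat.card (Subgroup.normalizer (Subgroup.zpowers y : Set G)))
    (hfaith : ∀ χ : IrrCharacter G, χ.1 y = χ.1 1 → χ = Char.trivialChar G) : False := by
  set R := fus y p with hR
  set e := R.card with he
  have hcardN := card_normalizer hy hC
  rw [← hR, ← he] at hcardN
  have he2 : 2 ≤ e := by
    rw [hcardN] at hN2
    exact Nat.le_of_mul_le_mul_right hN2 hp.out.pos
  have hG : Nat.card G = e * p * (1 + t * p) := by
    rw [← hcardN, ← hidx, Subgroup.card_mul_index]
  have hprim := ZMod.isPrimitive_stdAddChar p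
  let ψ := ZMod.stdAddChar (N := p)
  have hsum : ∀ x : ZMod p, ∑ k : ZMod p, ψ (k * x) = if x = 0 then (p : ℂ) else 0 := fun x => by
    rw [AddChar.sum_mulShift x hprim, ZMod.card]
    split_ifs <;> simp
  have hcj : ∀ x : ZMod p, conj (ψ x) = ψ (-x) := fun x => by
    rw [AddChar.map_neg_eq_inv]
    refine CharInt.conj_eq_inv_of_pow_eq_one hp.out.ne_zero ?_
    rw [← AddChar.map_nsmul_eq_pow, nsmul_eq_mul, ZMod.natCast_self, zero_mul,
      AddChar.map_zero_eq_one]
  -- the multiplicities
  have hmult : ∀ χ : IrrCharacter G, ∃ v : ZMod p → ℕ, Char.degree χ = ∑ i, v i ∧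
      ∀ k, χ.1 (pw y k) = ∑ i, (v i : ℂ) * ψ (k * i) := by
    intro χ
    obtain ⟨n, μ, hn, hμ, hval⟩ := CharInt.exists_roots (Char.irr_isCharacter χ) y
    rw [hy] at hμ
    have hroot : ∀ l, ∃ i : ZMod p, ψ i = μ l := fun l => by
      have h1 : IsPrimitiveRoot (ψ 1) p := by
        rw [IsPrimitiveRoot.iff_orderOf]
        refine orderOf_eq_prime ?_ fun h => ?_
        · rw [← AddChar.map_nsmul_eq_pow, nsmul_eq_mul, ZMod.natCast_self, zero_mul,
            AddChar.map_zero_eq_one]
        · exact one_ne_zero (ZMod.injective_stdAddChar (h.trans (AddChar.map_zero_eq_one _).symm))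
      obtain ⟨i, -, hi⟩ := h1.eq_pow_of_pow_eq_one (hμ l)
      exact ⟨(i : ZMod p), by rw [← hi, ← AddChar.map_nsmul_eq_pow, nsmul_one]⟩
    choose idx hidx using hroot
    refine ⟨fun i => (Finset.univ.filter fun l => idx l = i).card, ?_, fun k => ?_⟩
    · rw [← Finset.card_eq_sum_card_fiberwise (fun l _ => Finset.mem_univ (idx l)),
        Finset.card_univ, Fintype.card_fin]
      exact Nat.cast_injective (R := ℂ) ((Char.apply_one_eq_degree χ).symm.trans hn)
    · rw [pw, hval, ← Finset.sum_fiberwise_of_maps_to (t := Finset.univ) (g := idx)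
        (fun l _ => Finset.mem_univ _)]
      refine Finset.sum_congr rfl fun i _ => ?_
      rw [Finset.sum_congr rfl (g := fun _ => ψ (k * i)) fun l hl => ?_, Finset.sum_const,
        nsmul_eq_mul]
      rw [← hidx l, (Finset.mem_filter.1 hl).2, ← AddChar.map_nsmul_eq_pow, nsmul_eq_mul,
        ZMod.natCast_zmod_val]
  choose v hdeg hv using hmult
  -- inversion
  have hinv : ∀ χ j, ∑ k : ZMod p, χ.1 (pw y k) * ψ (-(k * j)) = (p : ℂ) * v χ j := by
    intro χ j
    simp only [hv, Finset.sum_mul, mul_assoc, ← AddChar.map_add_eq_mul]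
    rw [Finset.sum_comm]
    simp only [← Finset.mul_sum, ← sub_eq_add_neg, ← mul_sub, hsum, sub_eq_zero, mul_ite, mul_zero]
    rw [Finset.sum_ite_eq' Finset.univ j]
    simp [mul_comm]
  have hinv' : ∀ χ j, ∑ k : ZMod p, conj (χ.1 (pw y k)) * ψ (k * j) = (p : ℂ) * v χ j := by
    intro χ j
    have h := congrArg conj (hinv χ j)
    simp only [map_sum, map_mul, hcj, neg_neg, map_natCast] at h
    exact h
  -- invariance
  have hvinv : ∀ χ, ∀ ε ∈ R, ∀ x, v χ (ε * x) = v χ x := by
    intro χ ε hε x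
    have h0 : (p : ℂ) ≠ 0 := Nat.cast_ne_zero.2 hp.out.ne_zero
    refine Nat.cast_injective (R := ℂ) (mul_left_cancel₀ h0 ?_)
    rw [← hinv, ← hinv]
    refine Fintype.sum_equiv (Equiv.mulRight₀ ε (fus_ne_zero hy hε)) _ _ fun k => ?_
    show _ = χ.1 (pw y (k * ε)) * ψ (-(k * ε * x))
    rw [mul_assoc,
      Char.IsClassFunction.apply_of_isConj
        (Char.IsCharacter.isClassFunction (Char.irr_isCharacter χ)) (isConj_pw_mul hy hε k)]
  -- the second orthogonality on the powers of `y`
  have hS : ∀ k l : ZMod p, ∑ χ : IrrCharacter G, χ.1 (pw y k) * conj (χ.1 (pw y l)) =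
      if k = 0 then (if l = 0 then (Nat.card G : ℂ) else 0)
      else ∑ ε ∈ R, (if k * ε = l then (p : ℂ) else 0) := by
    intro k l
    rw [Char.sum_irr_mul_conj]
    by_cases hk : k = 0
    · subst hk
      rw [if_pos rfl, pw_zero]
      by_cases hl : l = 0
      · subst hl
        rw [if_pos rfl, pw_zero, if_pos (IsConj.refl _)]
        have : Subgroup.centralizer ({1} : Set G) = ⊤ := by
          ext x; simp [Subgroup.mem_centralizer_singleton_iff]
        rw [this, Subgroup.card_top]
      · rw [if_neg hl, if_neg fun h => hl ?_]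
        rw [isConj_one_right] at h
        exact pw_inj hy (h.trans pw_zero.symm)
    · rw [if_neg hk]
      by_cases hc : IsConj (pw y k) (pw y l)
      · obtain ⟨ε, hε, hεl⟩ := (isConj_pw_iff hy hk).1 hc
        rw [if_pos hc, Finset.sum_eq_single ε (fun b _ hb => if_neg fun h => hb
          (mul_left_cancel₀ hk (h.trans hεl.symm))) (fun h => absurd hε h), if_pos hεl,
          centralizer_pw hy (hεl ▸ mul_ne_zero hk (fus_ne_zero hy hε)), hC, Nat.card_zpowers, hy]
      · rw [if_neg hc, Finset.sum_eq_zero]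
        exact fun ε hε => if_neg fun h => hc ((isConj_pw_iff hy hk).2 ⟨ε, hε, h⟩)
  -- the Gram matrix
  have hgram : ∀ i j, ∑ χ : IrrCharacter G, v χ i * v χ j =
      t * e + (R.filter fun ε => ε * j = i).card := by
    intro i j
    have h0 : (p : ℂ) ≠ 0 := Nat.cast_ne_zero.2 hp.out.ne_zero
    refine Nat.cast_injective (R := ℂ) (mul_left_cancel₀ (mul_ne_zero h0 h0) ?_)
    push_cast
    rw [Finset.mul_sum, Finset.sum_congr rfl (g := fun χ : IrrCharacter G =>
      (∑ k : ZMod p, χ.1 (pw y k) * ψ (-(k * i))) * ∑ l : ZMod p, conj (χ.1 (pw y l)) * ψ (l * j))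
      fun χ _ => by rw [hinv, hinv']; ring]
    rw [Finset.sum_congr rfl fun χ _ => Finset.sum_mul_sum .., Finset.sum_comm]
    have e1 : ∀ k : ZMod p, (∑ χ : IrrCharacter G, ∑ l : ZMod p,
        χ.1 (pw y k) * ψ (-(k * i)) * (conj (χ.1 (pw y l)) * ψ (l * j))) =
        ∑ l : ZMod p, ψ (-(k * i)) * ψ (l * j) *
          (if k = 0 then (if l = 0 then (Nat.card G : ℂ) else 0)
            else ∑ ε ∈ R, (if k * ε = l then (p : ℂ) else 0)) := fun k => by
      rw [Finset.sum_comm]
      refine Finset.sum_congr rfl fun l _ => ?_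
      rw [← hS, Finset.mul_sum]
      exact Finset.sum_congr rfl fun χ _ => by ring
    rw [Finset.sum_congr rfl fun k _ => e1 k, ← Finset.add_sum_erase _ _ (Finset.mem_univ 0)]
    rw [Finset.sum_eq_single 0 (fun b _ hb => by simp [hb]) (by simp)]
    rw [if_pos rfl, if_pos rfl, zero_mul, zero_mul, neg_zero, AddChar.map_zero_eq_one, one_mul,
      one_mul]
    rw [Finset.sum_congr rfl (g := fun k => ∑ ε ∈ R, ψ (k * (ε * j - i)) * (p : ℂ)) fun k hk => ?_]
    · rw [Finset.sum_comm, Finset.sum_congr rfl (g := fun ε : ZMod p =>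
        ((if ε * j = i then (p : ℂ) else 0) - 1) * p) fun ε _ => ?_,
        ← Finset.sum_mul, Finset.sum_sub_distrib, ← Finset.sum_filter, Finset.sum_const,
        Finset.sum_const, nsmul_eq_mul, nsmul_eq_mul, hG, ← he]
      · push_cast; ring
      · rw [← Finset.sum_mul, Finset.sum_erase_eq_sub (Finset.mem_univ _), hsum, zero_mul,
          AddChar.map_zero_eq_one]
        simp only [sub_eq_zero]
    · simp only [if_neg (Finset.mem_erase.1 hk).1, Finset.mul_sum, mul_ite, mul_zero]
      rw [Finset.sum_comm]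
      refine Finset.sum_congr rfl fun ε _ => ?_
      rw [Finset.sum_ite_eq Finset.univ (k * ε), if_pos (Finset.mem_univ _),
        ← AddChar.map_add_eq_mul]
      congr 2
      ring
  -- the classes of nonzero residues
  let cls : ZMod p → ConjClasses G := fun x => ConjClasses.mk (pw y x)
  set J := ((Finset.univ : Finset (ZMod p)).erase 0).image cls with hJ
  have hJrep : ∀ c : J, ∃ x : ZMod p, x ≠ 0 ∧ cls x = c := fun c => by
    obtain ⟨x, hx, he⟩ := Finset.mem_image.1 c.2
    exact ⟨x, (Finset.mem_erase.1 hx).1, he⟩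
  choose rep hrep0 hrep using hJrep
  have hfibre : ∀ c : J, (((Finset.univ : Finset (ZMod p)).erase 0).filter fun x => cls x = c) =
      R.image (· * rep c) := by
    intro c
    ext x
    simp only [Finset.mem_filter, Finset.mem_erase, Finset.mem_univ, and_true, Finset.mem_image]
    constructor
    · rintro ⟨-, hx⟩
      obtain ⟨ε, hε, he⟩ := (isConj_pw_iff hy (hrep0 c)).1
        (ConjClasses.mk_eq_mk_iff_isConj.1 ((hrep c).trans hx.symm))
      exact ⟨ε, hε, by rw [← he, mul_comm]⟩
    · rintro ⟨ε, hε, rfl⟩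
      refine ⟨mul_ne_zero (fus_ne_zero hy hε) (hrep0 c), ?_⟩
      rw [← hrep c]
      exact ConjClasses.mk_eq_mk_iff_isConj.2 (by
        rw [mul_comm]; exact (isConj_pw_mul hy hε _).symm)
  have hsplit : ∀ F : ZMod p → ℕ, (∀ ε ∈ R, ∀ x, F (ε * x) = F x) →
      ∑ x, F x = F 0 + e * ∑ c : J, F (rep c) := by
    intro F hF
    rw [← Finset.add_sum_erase _ _ (Finset.mem_univ 0), ← Finset.sum_fiberwise_of_maps_to
      (t := J) (g := cls) (fun x hx => Finset.mem_image_of_mem cls hx), Finset.mul_sum,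
      ← Finset.sum_attach J, Finset.univ_eq_attach]
    congr 1
    refine Finset.sum_congr rfl fun c _ => ?_
    rw [hfibre c, Finset.sum_image fun a _ b _ h => mul_right_cancel₀ (hrep0 c) h,
      Finset.sum_congr rfl fun ε hε => hF ε hε _, Finset.sum_const, smul_eq_mul]
  have hJcard : p = e * Fintype.card J + 1 := by
    have h := hsplit (fun _ => 1) fun _ _ _ => rfl
    simp only [Finset.sum_const, smul_eq_mul, mul_one, Finset.card_univ, ZMod.card] at h
    rw [h, add_comm]
  have hδ : ∀ c c' : J, (R.filter fun ε => ε * rep c' = rep c).card = if c = c' then 1 else 0 := by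
    intro c c'
    by_cases hcc : c = c'
    · subst hcc
      rw [if_pos rfl, Finset.card_eq_one]
      refine ⟨1, Finset.eq_singleton_iff_unique_mem.2 ⟨Finset.mem_filter.2
        ⟨Finset.mem_filter.2 ⟨Finset.mem_univ _, by rw [pw_one hy]⟩, one_mul _⟩, fun ε hε => ?_⟩⟩
      exact mul_right_cancel₀ (hrep0 c) ((Finset.mem_filter.1 hε).2.trans (one_mul _).symm)
    · rw [if_neg hcc, Finset.card_eq_zero, Finset.filter_eq_empty_iff]
      intro ε hε h
      refine hcc (Subtype.ext ?_)
      rw [← hrep c, ← hrep c', ← h]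
      exact ConjClasses.mk_eq_mk_iff_isConj.2 (by
        rw [mul_comm]; exact (isConj_pw_mul hy hε _).symm)
  refine false_of_gram he2 ht hJcard ?_ (Char.trivialChar G) (fun χ => v χ 0)
    (fun χ c => v χ (rep c)) ?_ ?_ ?_ ?_ ?_ ?_ ?_ ?_
  · have h1 : (cls 1) ∈ J := Finset.mem_image_of_mem cls (by simp)
    exact Fintype.card_pos_iff.2 ⟨⟨_, h1⟩⟩
  · have h := hinv (Char.trivialChar G) 0
    simp only [mul_zero, neg_zero, AddChar.map_zero_eq_one, mul_one] at h
    simp only [show ∀ k, (Char.trivialChar G).1 (pw y k) = 1 from fun _ => rfl, Finset.sum_const,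
      Finset.card_univ, ZMod.card, nsmul_one] at h
    have h0 : (p : ℂ) ≠ 0 := Nat.cast_ne_zero.2 hp.out.ne_zero
    exact_mod_cast ((mul_right_eq_self₀.1 h.symm).resolve_right h0)
  · intro c
    have h := hinv (Char.trivialChar G) (rep c)
    rw [Finset.sum_congr rfl (g := fun k => ψ (k * (-rep c))) fun k _ => by
      rw [mul_neg]; exact one_mul _, hsum, if_neg (neg_ne_zero.2 (hrep0 c))] at h
    exact_mod_cast (mul_eq_zero.1 h.symm).resolve_left (Nat.cast_ne_zero.2 hp.out.ne_zero)
  · intro χ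
    rw [← hsplit (v χ) (hvinv χ), ← hdeg]
    exact hb χ
  · intro χ hχ
    by_contra hcon
    push Not at hcon
    refine hχ (hfaith χ ?_)
    have h0 : ∀ x, x ≠ 0 → v χ x = 0 := fun x hx => by
      have hc : cls x ∈ J := Finset.mem_image_of_mem cls (by simp [hx])
      have : x ∈ R.image (· * rep ⟨cls x, hc⟩) := by
        rw [← hfibre]; simp [hx]
      obtain ⟨ε, hε, he⟩ := Finset.mem_image.1 this
      rw [← he, hvinv χ ε hε]
      exact hcon _
    have h1 : ∀ k, χ.1 (pw y k) = (v χ 0 : ℂ) := fun k => by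
      rw [hv, Finset.sum_eq_single 0 (fun b _ hb => by simp [h0 b hb]) (by simp), mul_zero,
        AddChar.map_zero_eq_one, mul_one]
    have h2 := h1 1
    rw [pw_one hy, ← h1 0, pw_zero] at h2
    exact h2
  · intro χ
    rw [← hsplit (v χ) (hvinv χ), ← hdeg]
    refine dvd_trans (?_ : Char.degree χ ∣ Nat.card G) (by rw [hG, mul_comm e p])
    have h := Char.degree_dvd_index_of_comm (N := (⊥ : Subgroup G))
      (fun a ha b hb => by rw [Subgroup.mem_bot.1 ha, Subgroup.mem_bot.1 hb]) χ
    rwa [Subgroup.index_bot] at h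
  · rw [hgram]
    congr 1
    rw [Finset.filter_true_of_mem fun ε _ => mul_zero ε]
  · intro c
    rw [hgram, Finset.filter_false_of_mem fun ε hε h => ?_, Finset.card_empty, add_zero]
    exact mul_ne_zero (fus_ne_zero hy hε) (hrep0 c) h
  · intro c c'
    rw [hgram, hδ]

end Cyclic

end Cfsg.Agent.DegreeLtPrime
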